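import Mathlib

/-! The lattice computation of the boundary forms `x ↦ b(d, x) + (1 - g) b(x, x)` modulo `δ`. -/

namespace Groth.Agent.BoundaryForms

open Finset

set_option autoImplicit false

theorem exists_gcd_eq_sum {ι : Type} [DecidableEq ι] (s : Finset ι) (d : ι → ℤ) :
    ∃ c : ι → ℤ, ∑ i ∈ s, c i * d i = s.gcd d := by
  induction s using Finset.induction_on with
  | empty => exact ⟨0, by simp⟩
  | insert a s ha ih =>
    obtain ⟨c, hc⟩ := ih
    refine ⟨fun i => if i = a then Int.gcdA (d a) (s.gcd d) else c i * Int.gcdB (d a) (s.gcd d), ?_⟩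
    rw [Finset.sum_insert ha, Finset.gcd_insert]
    dsimp only
    rw [if_pos rfl, ← Int.coe_gcd, Int.gcd_eq_gcd_ab]
    rw [Finset.sum_congr rfl (g := fun i => Int.gcdB (d a) (s.gcd d) * (c i * d i))
      (fun i hi => by rw [if_neg (ne_of_mem_of_not_mem hi ha)]; ring), ← Finset.mul_sum, hc]
    ring

/-- Any vector is a multiple of the first vector of some basis. -/
theorem exists_basis {n : ℕ} (d : Fin (n + 1) → ℤ) :
    ∃ bb : Module.Basis (Fin (n + 1)) ℤ (Fin (n + 1) → ℤ), d = univ.gcd d • bb 0 := by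
  classical
  by_cases hd : univ.gcd d = 0
  · refine ⟨Pi.basisFun ℤ _, ?_⟩
    rw [hd, zero_smul]
    funext i
    exact Finset.gcd_eq_zero_iff.1 hd i (mem_univ i)
  obtain ⟨c, hc⟩ := exists_gcd_eq_sum univ d
  choose v hv using fun i => Finset.gcd_dvd (f := d) (mem_univ i)
  let f : (Fin (n + 1) → ℤ) →ₗ[ℤ] ℤ := ∑ i, c i • LinearMap.proj i
  have hf : ∀ x, f x = ∑ i, c i * x i := fun x => by simp [f]
  have hfv : f v = 1 := by
    refine mul_left_cancel₀ hd ?_
    rw [mul_one, hf, Finset.mul_sum]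
    conv_rhs => rw [← hc]
    exact Finset.sum_congr rfl fun i _ => by rw [hv i]; ring
  let e : (ℤ × LinearMap.ker f) ≃ₗ[ℤ] (Fin (n + 1) → ℤ) :=
    { toFun := fun p => p.1 • v + (p.2 : Fin (n + 1) → ℤ)
      map_add' := fun p q => by
        simp only [Prod.fst_add, Prod.snd_add, Submodule.coe_add, add_smul]; abel
      map_smul' := fun a p => by
        simp only [Prod.smul_fst, Prod.smul_snd, Submodule.coe_smul, smul_add, RingHom.id_apply,
          smul_smul, smul_eq_mul]
      invFun := fun x => (f x, ⟨x - f x • v, by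
        rw [LinearMap.mem_ker, map_sub, map_smul, hfv, smul_eq_mul, mul_one, sub_self]⟩)
      left_inv := fun p => by
        have h1 : f (p.1 • v + (p.2 : Fin (n + 1) → ℤ)) = p.1 := by
          rw [map_add, map_smul, hfv, LinearMap.mem_ker.1 p.2.2, smul_eq_mul, mul_one, add_zero]
        refine Prod.ext h1 (Subtype.ext ?_)
        simp only [h1, add_sub_cancel_left]
      right_inv := fun x => by simp }
  have hk : Module.finrank ℤ (LinearMap.ker f) = n := by
    have h := e.finrank_eq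
    rw [Module.finrank_prod, Module.finrank_self, Module.finrank_fin_fun] at h
    omega
  let bk := (Module.finBasis ℤ (LinearMap.ker f)).reindex (finCongr hk)
  let bb := (((Module.Basis.singleton Unit ℤ).prod bk).map e).reindex
    ((Equiv.sumComm _ _).trans ((Equiv.optionEquivSumPUnit _).symm.trans (finSuccEquiv n).symm))
  refine ⟨bb, ?_⟩
  have h0 : bb 0 = v := by
    simp [bb, e, Module.Basis.prod_apply]
  rw [h0]
  funext i
  exact hv i

/-- Splitting off the first coordinate. -/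
def piSucc {n : ℕ} (α : Fin (n + 1) → Type) [∀ i, AddCommGroup (α i)] :
    (∀ i, α i) ≃+ α 0 × (∀ i : Fin n, α i.succ) :=
  { (Fin.consEquiv α).symm with map_add' := fun _ _ => rfl }

variable {n : ℕ} (δ : ℕ) (g : ℤ) (d : Fin (n + 1) → ℤ)

/-- The boundary forms. -/
def forms : Set ((Fin (n + 1) → ℤ) →+ ZMod δ) :=
  {φ | ∃ b : LinearMap.BilinForm ℤ (Fin (n + 1) → ℤ), b.IsSymm ∧
    ∀ x, φ x = ((b d x + (1 - g) * b x x : ℤ) : ZMod δ)}

/-- The weights of the coordinates. -/
noncomputable def wt (i : Fin (n + 1)) : ℤ :=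
  if i = 0 then univ.gcd d + 1 - g else Int.gcd (g - 1) (univ.gcd d)

theorem mem_closure_forms (hδ : (δ : ℤ) ∣ 2 * (g - 1))
    (bb : Module.Basis (Fin (n + 1)) ℤ (Fin (n + 1) → ℤ)) (hbb : d = univ.gcd d • bb 0)
    (φ : (Fin (n + 1) → ℤ) →+ ZMod δ) :
    φ ∈ AddSubgroup.closure (forms δ g d) ↔ ∀ i, ∃ t : ℤ, φ (bb i) = ((wt g d i * t : ℤ) : ZMod δ) := by
  classical
  constructor
  · intro hφ
    induction hφ using AddSubgroup.closure_induction with
    | mem φ hφ =>
      obtain ⟨b, hb, hφ⟩ := hφ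
      intro i
      rw [hφ]
      have hbd : b d (bb i) = univ.gcd d * b (bb 0) (bb i) := by
        conv_lhs => rw [hbb]
        rw [map_smul, LinearMap.smul_apply, smul_eq_mul]
      rw [hbd]
      by_cases hi : i = 0
      · subst hi
        refine ⟨b (bb 0) (bb 0), ?_⟩
        rw [wt, if_pos rfl]
        congr 1
        ring
      · obtain ⟨p, hp⟩ := Int.gcd_dvd_left (g - 1) (univ.gcd d)
        obtain ⟨q, hq⟩ := Int.gcd_dvd_right (g - 1) (univ.gcd d)
        refine ⟨q * b (bb 0) (bb i) - p * b (bb i) (bb i), ?_⟩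
        rw [wt, if_neg hi]
        congr 1
        linear_combination (b (bb 0) (bb i)) * hq - (b (bb i) (bb i)) * hp
    | zero => exact fun i => ⟨0, by simp⟩
    | add φ ψ _ _ h1 h2 =>
      intro i
      obtain ⟨s, hs⟩ := h1 i
      obtain ⟨t, ht⟩ := h2 i
      exact ⟨s + t, by rw [AddMonoidHom.add_apply, hs, ht, mul_add, Int.cast_add]⟩
    | neg φ _ h1 =>
      intro i
      obtain ⟨s, hs⟩ := h1 i
      exact ⟨-s, by rw [AddMonoidHom.neg_apply, hs, mul_neg, Int.cast_neg]⟩
  · intro h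
    choose t ht using h
    refine AddSubgroup.subset_closure ?_
    set p := Int.gcdA (g - 1) (univ.gcd d)
    set q := Int.gcdB (g - 1) (univ.gcd d)
    have hpq : (Int.gcd (g - 1) (univ.gcd d) : ℤ) = (g - 1) * p + univ.gcd d * q :=
      Int.gcd_eq_gcd_ab _ _
    let B : Matrix (Fin (n + 1)) (Fin (n + 1)) ℤ := Matrix.of fun i j =>
      if i = 0 ∧ j = 0 then t 0 else if i = 0 then q * t j else if j = 0 then q * t i
      else if i = j then -(p * t i) else 0
    let b : LinearMap.BilinForm ℤ (Fin (n + 1) → ℤ) := Matrix.toBilin bb B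
    have hbB : ∀ i j, b (bb i) (bb j) = B i j := fun i j => by
      simp only [b]
      rw [← BilinForm.toMatrix_apply bb, BilinForm.toMatrix_toBilin]
    have hsymm : ∀ x y, b x y = b y x := by
      have : b = LinearMap.flip b := LinearMap.ext_basis bb bb fun i j => by
        rw [LinearMap.flip_apply, hbB, hbB]
        simp only [B, Matrix.of_apply]
        by_cases hij : i = j
        · subst hij; rfl
        by_cases hi : i = 0 <;> by_cases hj : j = 0
        · exact absurd (hi.trans hj.symm) hij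
        · simp [hi, hj]
        · simp [hi, hj]
        · simp [hi, hj, hij, Ne.symm hij]
      intro x y
      exact congrArg (fun F => F x y) this
    let ψ : (Fin (n + 1) → ℤ) →+ ZMod δ :=
      AddMonoidHom.mk' (fun x => ((b d x + (1 - g) * b x x : ℤ) : ZMod δ)) fun x y => by
        show ((b d (x + y) + (1 - g) * b (x + y) (x + y) : ℤ) : ZMod δ) = _
        rw [← Int.cast_add, ZMod.intCast_eq_intCast_iff_dvd_sub]
        simp only [map_add, LinearMap.add_apply, hsymm y x]
        obtain ⟨m, hm⟩ := hδ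
        exact ⟨m * b x y, by linear_combination (b x y) * hm⟩
    have hφ : φ = ψ := by
      have : φ.toIntLinearMap = ψ.toIntLinearMap := bb.ext fun i => by
        show φ (bb i) = ((b d (bb i) + (1 - g) * b (bb i) (bb i) : ℤ) : ZMod δ)
        have hbd : b d (bb i) = univ.gcd d * B 0 i := by
          conv_lhs => rw [hbb]
          rw [map_smul, LinearMap.smul_apply, smul_eq_mul, hbB]
        rw [ht, hbd, hbB]
        congr 1
        by_cases hi : i = 0
        · subst hi
          simp [wt, B]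
          ring
        · rw [wt, if_neg hi, hpq]
          simp [B, hi]
          ring
      exact AddMonoidHom.ext fun x => congrArg (fun F : (Fin (n + 1) → ℤ) →ₗ[ℤ] ZMod δ => F x) this
    exact ⟨b, ⟨hsymm⟩, fun x => by rw [hφ]; rfl⟩

/-- Homomorphisms out of a lattice with a chosen basis. -/
noncomputable def homEquiv (bb : Module.Basis (Fin (n + 1)) ℤ (Fin (n + 1) → ℤ)) :
    ((Fin (n + 1) → ℤ) →+ ZMod δ) ≃+ (Fin (n + 1) → ZMod δ) :=
  (addMonoidHomLequivInt ℤ).toAddEquiv.trans (bb.constr ℤ).symm.toAddEquiv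

theorem homEquiv_apply (bb : Module.Basis (Fin (n + 1)) ℤ (Fin (n + 1) → ℤ))
    (φ : (Fin (n + 1) → ℤ) →+ ZMod δ) (i : Fin (n + 1)) : homEquiv δ bb φ i = φ (bb i) := rfl

theorem exists_quotient_equiv (hδ : (δ : ℤ) ∣ 2 * (g - 1)) :
    Nonempty ((((Fin (n + 1) → ℤ) →+ ZMod δ) ⧸ AddSubgroup.closure (forms δ g d)) ≃+
      (ZMod (Int.gcd δ (univ.gcd d + 1 - g)) ×
        (Fin n → ZMod (Int.gcd δ (Int.gcd (g - 1) (univ.gcd d)))))) := by
  classical
  obtain ⟨bb, hbb⟩ := exists_basis d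
  have hdvd : ∀ i, Int.gcd δ (wt g d i) ∣ δ := fun i => by
    exact_mod_cast Int.gcd_dvd_left (δ : ℤ) (wt g d i)
  let π : ((Fin (n + 1) → ℤ) →+ ZMod δ) →+ ∀ i, ZMod (Int.gcd δ (wt g d i)) :=
    AddMonoidHom.mk' (fun φ i => ZMod.castHom (hdvd i) (ZMod (Int.gcd δ (wt g d i))) (φ (bb i))) fun φ ψ => by
      funext i; simp only [AddMonoidHom.add_apply, map_add, Pi.add_apply]
  have hπ : Function.Surjective π := by
    intro v
    choose w hw using fun i => ZMod.castHom_surjective (hdvd i) (v i)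
    obtain ⟨φ, hφ⟩ := (homEquiv δ bb).surjective w
    refine ⟨φ, funext fun i => ?_⟩
    show ZMod.castHom (hdvd i) (ZMod (Int.gcd δ (wt g d i))) (φ (bb i)) = v i
    rw [← homEquiv_apply, hφ, hw]
  have hker : π.ker = AddSubgroup.closure (forms δ g d) := by
    ext φ
    rw [mem_closure_forms δ g d hδ bb hbb, AddMonoidHom.mem_ker]
    constructor
    · intro h i
      obtain ⟨z, hz⟩ := ZMod.intCast_surjective (φ (bb i))
      have h1 : ZMod.castHom (hdvd i) (ZMod (Int.gcd δ (wt g d i))) (φ (bb i)) = 0 := congrFun h i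
      rw [← hz, map_intCast, ZMod.intCast_zmod_eq_zero_iff_dvd] at h1
      obtain ⟨m, hm⟩ := h1
      refine ⟨Int.gcdB δ (wt g d i) * m, ?_⟩
      rw [← hz, ZMod.intCast_eq_intCast_iff_dvd_sub]
      exact ⟨-(Int.gcdA δ (wt g d i) * m), by
        rw [hm, Int.gcd_eq_gcd_ab]; ring⟩
    · intro h
      funext i
      obtain ⟨t, ht⟩ := h i
      show ZMod.castHom (hdvd i) (ZMod (Int.gcd δ (wt g d i))) (φ (bb i)) = 0
      rw [ht, map_intCast, ZMod.intCast_zmod_eq_zero_iff_dvd]
      exact (Int.gcd_dvd_right _ _).mul_right t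
  rw [← hker]
  refine ⟨(QuotientAddGroup.quotientKerEquivOfSurjective π hπ).trans ?_⟩
  exact (piSucc fun i => ZMod (Int.gcd δ (wt g d i))).trans
    (AddEquiv.prodCongr (ZMod.ringEquivCongr (by rw [wt, if_pos rfl])).toAddEquiv
      (AddEquiv.piCongrRight fun i : Fin n =>
        (ZMod.ringEquivCongr (by rw [wt, if_neg (Fin.succ_ne_zero i)])).toAddEquiv))

theorem nonempty_zmultiples_equiv (hδ0 : 0 < δ) (w : ℤ) :
    Nonempty (AddSubgroup.zmultiples ((w : ZMod δ)) ≃+ ZMod (δ / Int.gcd δ w)) := by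
  haveI : NeZero δ := ⟨hδ0.ne'⟩
  have h : addOrderOf (w : ZMod δ) = δ / Int.gcd δ w := by
    rcases Int.natAbs_eq w with h | h <;>
      (conv_lhs => rw [h]) <;>
      simp only [Int.cast_neg, Int.cast_natCast, addOrderOf_neg] <;>
      rw [ZMod.addOrderOf_coe _ hδ0.ne', Int.gcd_def, Int.natAbs_natCast]
  rw [← h, ← Nat.card_zmultiples]
  exact ⟨(zmodAddCyclicAddEquiv inferInstance).symm⟩

theorem exists_closure_equiv (hδ0 : 0 < δ) (hδ : (δ : ℤ) ∣ 2 * (g - 1)) :
    Nonempty (AddSubgroup.closure (forms δ g d) ≃+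
      (ZMod (δ / Int.gcd δ (univ.gcd d + 1 - g)) ×
        (Fin n → ZMod (δ / Int.gcd δ (Int.gcd (g - 1) (univ.gcd d)))))) := by
  classical
  obtain ⟨bb, hbb⟩ := exists_basis d
  let e := fun i => (nonempty_zmultiples_equiv δ hδ0 (wt g d i)).some
  have hmem : ∀ φ : (Fin (n + 1) → ℤ) →+ ZMod δ, φ ∈ AddSubgroup.closure (forms δ g d) ↔
      ∀ i, φ (bb i) ∈ AddSubgroup.zmultiples ((wt g d i : ℤ) : ZMod δ) := by
    intro φ
    rw [mem_closure_forms δ g d hδ bb hbb]
    refine forall_congr' fun i => ?_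
    rw [AddSubgroup.mem_zmultiples_iff]
    exact exists_congr fun t => by rw [zsmul_eq_mul, ← Int.cast_mul, mul_comm t, eq_comm]
  let π : AddSubgroup.closure (forms δ g d) →+
      ∀ i, AddSubgroup.zmultiples ((wt g d i : ℤ) : ZMod δ) :=
    AddMonoidHom.mk' (fun φ i => ⟨(φ : (Fin (n + 1) → ℤ) →+ ZMod δ) (bb i), (hmem φ.1).1 φ.2 i⟩)
      fun φ ψ => rfl
  have hπ : Function.Bijective π := by
    refine ⟨fun φ ψ h => Subtype.ext ((homEquiv δ bb).injective (funext fun i =>
      congrArg Subtype.val (congrFun h i))), fun v => ?_⟩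
    obtain ⟨φ, hφ⟩ := (homEquiv δ bb).surjective fun i => (v i : ZMod δ)
    exact ⟨⟨φ, (hmem φ).2 fun i => by rw [← homEquiv_apply, hφ]; exact (v i).2⟩,
      funext fun i => Subtype.ext (congrFun hφ i)⟩
  refine ⟨(AddEquiv.ofBijective π hπ).trans ((AddEquiv.piCongrRight e).trans ?_)⟩
  exact (piSucc fun i => ZMod (δ / Int.gcd δ (wt g d i))).trans
    (AddEquiv.prodCongr (ZMod.ringEquivCongr (by rw [wt, if_pos rfl])).toAddEquiv
      (AddEquiv.piCongrRight fun i : Fin n =>
        (ZMod.ringEquivCongr (by rw [wt, if_neg (Fin.succ_ne_zero i)])).toAddEquiv))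

end Groth.Agent.BoundaryForms
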